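import Cfsg.Agent.H0.TC
set_option maxRecDepth 100000
namespace H0.TCL340
open H0
noncomputable def r0 : TC.WTr := (.node (.node (.node (.node (.node (.node (.leaf [0] 0 0 false) (.leaf [12] 11 0 false)) (.leaf [6] 5 0 false)) (.node (.leaf [1] 1 1 false) (.leaf [9, 4, 12, 6, 12] 33 4 false))) (.node (.node (.leaf [5, 8, 0, 8, 6, 7] 54 3 true) (.leaf [4, 6, 3, 5, 4] 27 0 true)) (.node (.leaf [3] 3 1 false) (.leaf [7, 9, 2, 2] 48 0 true)))) (.node (.node (.node (.node (.leaf [8, 7, 4, 0, 10, 1] 53 3 false) (.leaf [7, 8, 9, 8] 15 4 false)) (.leaf [3, 5, 3, 8, 3] 28 1 false)) (.node (.leaf [6, 3, 6, 3, 6, 3, 6, 3, 6] 32 0 false) (.leaf [12, 9, 12] 24 0 false))) (.node (.node (.leaf [0, 2, 2, 0, 2, 0, 2, 0, 6] 44 0 false) (.leaf [8] 8 0 false)) (.node (.leaf [2, 12, 5, 4, 4, 0, 2] 55 2 false) (.leaf [9] 9 1 false))))) (.node (.node (.node (.node (.node (.leaf [4, 2, 0, 1, 0, 2, 0,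 1, 1] 43 8 false) (.leaf [11] 11 1 false)) (.leaf [6, 10, 7, 3, 7] 38 2 false)) (.node (.leaf [5, 4, 7, 4, 6] 27 3 true) (.leaf [2, 7, 9, 1] 49 1 false))) (.node (.node (.leaf [2] 1 0 false) (.leaf [1, 10, 2, 10] 49 1 true)) (.node (.leaf [3] 3 1 false) (.leaf [9] 9 1 false)))) (.node (.node (.node (.node (.leaf [10, 7, 9, 1] 48 1 false) (.leaf [11] 11 1 false)) (.leaf [5] 5 1 false)) (.node (.leaf [3] 3 1 false) (.leaf [10] 9 0 false))) (.node (.node (.leaf [2, 10, 7, 9] 48 3 true) (.leaf [6, 3, 0, 4, 12, 0, 6] 56 5 false)) (.node (.leaf [6] 5 0 false) (.leaf [8, 7, 5, 7, 12, 4] 41 4 false))))))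
noncomputable def r1 : TC.WTr := (.node (.node (.node (.node (.node (.node (.leaf [4, 7, 0, 4, 7] 51 2 true) (.leaf [12] 11 0 false)) (.leaf [5] 5 1 false)) (.node (.leaf [12, 10, 4, 8, 9] 37 0 false) (.leaf [8] 8 0 false))) (.node (.node (.leaf [8, 2, 12, 9, 7] 50 0 false) (.leaf [5, 8, 0, 8, 6, 2] 54 4 false)) (.node (.leaf [3] 3 1 false) (.leaf [6, 4, 6] 29 3 false)))) (.node (.node (.node (.node (.leaf [0] 0 0 false) (.leaf [10, 4, 8, 9, 3] 37 1 false)) (.leaf [12, 8, 9, 4, 12] 33 2 false)) (.node (.leaf [4] 3 0 false) (.leaf [5, 5, 7, 4, 7] 38 1 true))) (.node (.node (.leaf [7, 9, 1, 9] 49 2 false) (.leaf [3, 3, 7, 4, 4] 40 5 false)) (.node (.leaf [5, 7, 4, 7, 9] 38 2 true) (.leaf [6, 12, 9, 3, 5] 39 2 false))))) (.node (.node (.node (.node (.node (.leaf [2, 5, 2, 12, 5, 4, 4] 55 0 false) (.leaf [0, 6, 8, 6, 3, 0, 4] 56 2 false)) (.leaf [6, 6, 6, 6] 26 0 true)) (.node (.leaf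 [3, 7, 4, 4, 8] 40 0 false) (.leaf [9, 9] 14 0 false))) (.node (.node (.leaf [1] 1 1 false) (.leaf [8, 9, 8, 12] 15 0 false)) (.node (.leaf [3] 3 1 false) (.leaf [9] 9 1 false)))) (.node (.node (.node (.node (.leaf [0, 8, 7, 4, 0, 10] 53 2 false) (.leaf [11] 11 1 false)) (.leaf [9, 2, 2, 10] 48 1 true)) (.node (.leaf [7, 8, 4, 8, 7] 35 0 false) (.leaf [9] 9 1 false))) (.node (.node (.leaf [1] 1 1 false) (.leaf [10, 8, 7, 11] 15 1 true)) (.node (.leaf [6] 5 0 false) (.leaf [1, 6, 1, 0, 3, 3, 6] 55 3 true))))))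
noncomputable def r2 : TC.WTr := (.node (.node (.node (.node (.node (.node (.leaf [8, 0, 8, 0, 8] 52 0 false) (.leaf [12] 11 0 false)) (.leaf [6] 5 0 false)) (.node (.leaf [4] 3 0 false) (.leaf [4, 6, 4, 5, 4] 28 0 true))) (.node (.node (.leaf [5, 0, 1, 0, 1, 0, 1, 1, 0] 44 9 true) (.leaf [8, 7, 8] 16 0 false)) (.node (.leaf [3] 3 1 false) (.leaf [7, 9, 1, 1] 48 2 false)))) (.node (.node (.node (.node (.leaf [3, 7, 8, 0, 2, 9] 53 6 true) (.leaf [6, 12, 8, 9, 4] 33 1 false)) (.leaf [4, 10, 11, 5, 12] 39 4 true)) (.node (.leaf [5, 11, 6, 12, 9] 39 0 false) (.leaf [11, 4, 10, 8, 3] 37 3 true))) (.node (.node (.leaf [0, 2, 0, 2, 0, 6, 2, 0, 2] 44 3 false) (.leaf [2, 12, 9, 7, 1] 50 1 false)) (.node (.leaf [9, 5, 3] 29 3 true) (.leaf [12] 11 0 false))))) (.node (.node (.node (.node (.node (.leaf [1, 0, 1, 0, 1, 1, 0, 1, 5] 44 1 true) (.leaf [9, 7, 1, 8, 2] 50 3 false)) (.leaf [9,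 4, 9, 8, 3] 36 1 false)) (.node (.leaf [5, 3, 8, 3, 6] 28 2 false) (.leaf [0, 3, 7, 8, 0, 2] 53 5 true))) (.node (.node (.leaf [2] 1 0 false) (.leaf [9, 3, 7, 9, 3] 34 0 true)) (.node (.leaf [3] 3 1 false) (.leaf [9] 9 1 false)))) (.node (.node (.node (.node (.leaf [10, 2, 10, 7] 49 2 true) (.leaf [11] 11 1 false)) (.leaf [7] 7 0 false)) (.node (.leaf [6, 10, 6] 29 1 false) (.leaf [10] 9 0 false))) (.node (.node (.leaf [7, 5, 8, 0, 8, 6] 54 3 false) (.leaf [6, 7, 1, 5, 8, 0] 54 0 true)) (.node (.leaf [6] 5 0 false) (.leaf [10, 11, 10] 24 0 true))))))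
noncomputable def r3 : TC.WTr := (.node (.node (.node (.node (.node (.node (.leaf [4, 12, 0, 6, 8, 6, 3] 56 0 false) (.leaf [12] 11 0 false)) (.leaf [2, 7, 5, 8, 0, 8] 54 2 false)) (.node (.leaf [3, 3, 3] 25 0 false) (.leaf [10] 9 0 false))) (.node (.node (.leaf [0, 3, 3, 6, 11, 1, 6] 55 6 true) (.leaf [8, 4, 8, 7, 4] 35 1 false)) (.node (.leaf [3] 3 1 false) (.leaf [9] 9 1 false)))) (.node (.node (.node (.node (.leaf [2] 1 0 false) (.leaf [8, 9, 4, 12, 6] 33 3 false)) (.leaf [5] 5 1 false)) (.node (.leaf [4] 3 0 false) (.leaf [4, 9, 8, 3, 6] 36 2 false))) (.node (.node (.leaf [10, 7, 9, 2] 48 4 true) (.leaf [0, 2, 9, 0, 3, 7] 53 2 true)) (.node (.leaf [4, 4, 0, 2, 5, 2, 12] 55 5 false) (.leaf [5, 11, 3, 10, 8] 33 2 true))))) (.node (.node (.node (.node (.node (.leaf [7, 3, 0, 7, 3] 51 0 false) (.leaf [12, 12] 13 0 true)) (.leaf [10, 7, 3, 7, 6] 38 3 false)) (.node (.leaf [11,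 7, 6, 7, 8, 12] 41 3 true) (.leaf [2, 2, 10, 7] 48 2 true))) (.node (.node (.leaf [12, 9, 7, 1, 8] 50 2 false) (.leaf [5, 7, 12, 4, 11, 8] 41 6 false)) (.node (.leaf [6] 5 0 false) (.leaf [9] 9 1 false)))) (.node (.node (.node (.leaf [1, 1, 1] 42 0 false) (.leaf [0, 4, 7, 0, 4] 51 1 true)) (.node (.leaf [8, 9, 3, 12, 10] 37 3 false) (.leaf [5, 4, 8, 10, 3] 36 3 true))) (.node (.node (.leaf [1] 1 1 false) (.leaf [3, 6, 3, 5, 3] 28 5 false)) (.node (.leaf [6] 5 0 false) (.leaf [12] 11 0 false))))))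
noncomputable def tS : Tr := (.leaf (nat_lit 0xffdd59785b5dde2831c30c1c41723497a21ffd1e0bd4e4e5aa3c0cb72d5c6b5eb51145ffe757018e5b21f87de10bd5d7c67592e47ffd600b5ad4b95b65d7f7c5dd721ec705dfffd3e5d9aa621884cd836142d69e2f71634ffdc86ccd761d2e56daa575df7282d16158ffc873c59f6fd9f649df3960a05dee6fe06ffd014e59e3b16852d4a1cc175dd6f87540ffceb3bd1c450eb46d185a1155e1b446c17ffc5a0593e421765299f4fd6c7897f8196cffd0a21c16160d74208b788ad2113257563ffc9d285436801643c4167dcc2093982448ffd084a94c4bd206d53e0587d509df82d4affde07dd8c1f5426ac164c95856d966ad85ffc401d1b267dcc100536789d059dc50153ffc523d0df3d8c730451680162752c66933ffd1942073100de35d31104724c87805900ffc50581324c5876c95c4b9c913c1613941ffc6b200410b02c15858174380dc000a836ffc35168580d033168320c4300bc2e0b400ffc00000000000000000000000004105c16))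
noncomputable def tJ : Tr := (.leaf (nat_lit 0x140729104511e119d0258070015094106830125000a042460804e0001601b805424e0018a739006000c74184e280081000418400000017100301460000c8001c32988000000280a2700060000410080008020104e5806c01407000001006a0002c18080000201810000005600200002009400000a6001801800530000000856000410003008023804010180000800082010c0060820104030004300c21001811000000c0020c006008200400084200000c080000000000000000006000b5ad6b5ad6b58000))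
noncomputable def tQ : Tr := (.leaf (nat_lit 0x0))
noncomputable def tR : TC.WTr := (.node (.node r0 r1) (.node r2 r3))
def hl : List ℕ := [3, 4, 4, 3, 5, 6, 6, 5, 7, 8, 9, 10, 10, 9, 11, 12, 12, 11]
def B : List (List ℕ) := [[0, 0], [1, 2], [2, 1], [3, 4], [4, 3], [5, 6], [6, 5], [7, 7], [8, 8], [9, 10], [10, 9], [11, 12], [12, 11], [11, 11, 11], [9, 9, 9], [7, 8, 9, 8, 12], [7, 8, 7, 8], [7, 8, 7, 8], [7, 9, 7, 9, 7, 9], [7, 9, 7, 10, 7, 9, 7, 10], [7, 10, 7, 10, 7, 10], [8, 9, 8, 9, 8, 9], [8, 9, 8, 10, 8, 9, 8, 10], [8, 10, 8, 10, 8, 10], [9, 12, 9, 12], [3, 3, 3, 3], [5, 5, 5, 5, 5], [3, 6, 4, 5, 3, 7], [3, 6, 3, 5, 3, 8], [6, 4, 6, 10], [3, 5, 3, 5, 3, 5, 3, 5, 3, 5], [3, 5, 4, 6, 3, 5, 4, 6, 3, 5, 4, 6], [3, 6, 3, 6, 3, 6, 3, 6, 3, 6], [4, 12, 6, 12, 8, 9], [4, 10, 7, 4, 10, 7], [4, 7, 8, 4, 8, 7], [3, 6, 9, 4, 9, 8], [3, 12, 10, 4, 8, 9], [3, 7, 6, 6, 10, 7], [3, 5, 11,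 6, 12, 9], [3, 3, 7, 4, 4, 8], [5, 7, 12, 4, 11, 8, 7], [1, 1, 1, 1], [2, 0, 1, 0, 2, 0, 1, 1, 0, 4], [2, 0, 2, 2, 0, 2, 0, 2, 0, 6], [0, 1, 0, 1, 0, 1, 0, 1, 0, 1, 0, 1, 0, 1], [0, 1, 0, 2, 0, 1, 0, 2, 0, 1, 0, 2, 0, 1, 0, 2, 0, 1, 0, 2], [0, 2, 0, 2, 0, 2, 0, 2, 0, 2, 0, 2, 0, 2], [1, 1, 10, 7, 9], [1, 9, 2, 7, 9], [1, 8, 2, 12, 9, 7], [0, 7, 3, 0, 7, 3], [0, 8, 0, 8, 0, 8], [0, 10, 1, 0, 8, 7, 4], [0, 8, 6, 2, 7, 5, 8], [0, 2, 5, 2, 12, 5, 4, 4], [0, 4, 12, 0, 6, 8, 6, 3]]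
def subs : List (List ℕ) := [[3], [4], [5], [6], [7], [8], [9], [10], [11], [12]]
def ex : List (List ℕ) := []
def inv (x : ℕ) : ℕ := [0, 2, 1, 4, 3, 6, 5, 7, 8, 10, 9, 12, 11].getD x 0
noncomputable def rS : ℕ → ℕ := rowOf tS (nat_lit 7) (nat_lit 127) (nat_lit 140) (nat_lit 1393796574908163946345982392040522594123775)
noncomputable def rJ : ℕ → ℕ := rowOf tJ (nat_lit 7) (nat_lit 127) (nat_lit 75) (nat_lit 37778931862957161709567)
noncomputable def C : TC.Cfg where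
  S := look rS (nat_lit 10) (nat_lit 1023)
  J := look rJ (nat_lit 5) (nat_lit 31)
  Q := lookQ tQ (nat_lit 7) (nat_lit 1) (nat_lit 1)
  R := tR.get
  hl := fun x => hl.contains x
  n := (nat_lit 21)
  M := (nat_lit 21)
  top := (nat_lit 630)
  nl := (nat_lit 13)
  need := (nat_lit 13)
  nr := (nat_lit 11)
theorem k0 : TC.chkRange C 0 1 = true := by decide +kernel
theorem rows0 : ∀ c < (0 + 1) * 64, c < C.M → TC.chkRow C c = true :=
  TC.rows_step (TC.rows_zero C) k0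
theorem main {G : Type*} [Group G] (g : ℕ → G) (hB : ∀ r ∈ B, ev g r = 1) (H : Subgroup G)
    (hH : ∀ w ∈ subs, ev g w ∈ H) :
    H.relIndex (Subgroup.closure (g '' {x | x < 13})) ≠ 0 ∧
      H.relIndex (Subgroup.closure (g '' {x | x < 13})) ≤ 21 :=
  TC.index_le C B subs ex inv hl tR.hint rfl (by decide +kernel) (by decide +kernel)
    (TC.rows_done rows0 (by decide +kernel)) g hB H hH
end H0.TCL340
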